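import Mathlib

/-!
In the alternating group of degree other than 4 and 5, an involution is a product of squares of
elements centralizing it.
-/

set_option autoImplicit false

namespace Cfsg.Agent.Lib.TwoCentralAlt

open Equiv

/-- The subgroup generated by the squares of the elements commuting with `x`. -/
def sqCent {H : Type*} [Group H] (x : H) : Subgroup H :=
  Subgroup.closure {y | ∃ a : H, a * x = x * a ∧ a * a = y}

theorem sq_mem_sqCent {H : Type*} [Group H] {x a : H} (h : a * x = x * a) :
    a * a ∈ sqCent x := Subgroup.subset_closure ⟨a, h, rfl⟩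

theorem commutator_mem_sqCent {H : Type*} [Group H] {x a b : H} (ha : a * x = x * a)
    (hb : b * x = x * b) : a * b * a⁻¹ * b⁻¹ ∈ sqCent x := by
  have ha' : Commute a x := ha
  have hb' : Commute b x := hb
  have h : a * b * a⁻¹ * b⁻¹ = (a * a) * ((a⁻¹ * b) * (a⁻¹ * b)) * (b⁻¹ * b⁻¹) := by group
  rw [h]
  exact mul_mem (mul_mem (sq_mem_sqCent ha') (sq_mem_sqCent (ha'.inv_left.mul_left hb')))
    (sq_mem_sqCent hb'.inv_left)

variable {Ω : Type*} [DecidableEq Ω] [Fintype Ω]

theorem swap_mul_swap_mem {σ : ↥(alternatingGroup Ω)} (h2 : σ * σ = 1)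
    (h6 : 6 ≤ Fintype.card Ω) {a c : Ω} (ha : (σ : Perm Ω) a ≠ a) (hc : (σ : Perm Ω) c ≠ c)
    (hca : c ≠ a) (hca' : c ≠ (σ : Perm Ω) a) :
    ∃ h, (⟨swap a ((σ : Perm Ω) a) * swap c ((σ : Perm Ω) c), h⟩ : ↥(alternatingGroup Ω)) ∈
      sqCent σ := by
  classical
  obtain ⟨s, hs⟩ := σ
  simp only at ha hc hca' ⊢
  have hh : ∀ x, s (s x) = x := fun x => by
    have := congrArg (fun g : ↥(alternatingGroup Ω) => (g : Perm Ω) x) h2
    simpa using this
  -- a further invariant pair, disjoint from the first two
  obtain ⟨e, f, hef, he, hinv⟩ : ∃ e f : Ω, e ≠ f ∧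
      (∀ x ∈ [e, f], x ∉ [a, s a, c, s c]) ∧ ((s e = f ∧ s f = e) ∨ (s e = e ∧ s f = f)) := by
    by_cases hm : ∃ e, s e ≠ e ∧ e ∉ [a, s a, c, s c]
    · obtain ⟨e, he, he'⟩ := hm
      refine ⟨e, s e, Ne.symm he, ?_, Or.inl ⟨rfl, hh e⟩⟩
      intro x hx
      simp only [List.mem_cons, List.not_mem_nil, or_false] at hx he'
      rcases hx with rfl | rfl
      · simpa using he'
      · simp only [List.mem_cons, List.not_mem_nil, or_false]
        rintro (h | h | h | h) <;> have h' := congrArg s h <;> rw [hh] at h'
        · exact he' (Or.inr (Or.inl h'))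
        · exact he' (Or.inl (h'.trans (hh a)))
        · exact he' (Or.inr (Or.inr (Or.inr h')))
        · exact he' (Or.inr (Or.inr (Or.inl (h'.trans (hh c)))))
    · simp only [not_exists, not_and, not_not] at hm
      have hcard : 1 < ((Finset.univ : Finset Ω) \ {a, s a, c, s c}).card := by
        have := Finset.le_card_sdiff ({a, s a, c, s c} : Finset Ω) Finset.univ
        have := Finset.card_le_four (a := a) (b := s a) (c := c) (d := s c)
        simp only [Finset.card_univ] at *
        omega
      obtain ⟨e, he, f, hf, hef⟩ := Finset.one_lt_card.1 hcard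
      simp only [Finset.mem_sdiff, Finset.mem_univ, true_and, Finset.mem_insert,
        Finset.mem_singleton] at he hf
      refine ⟨e, f, hef, ?_, Or.inr ⟨?_, ?_⟩⟩
      · intro x hx
        simp only [List.mem_cons, List.not_mem_nil, or_false] at hx ⊢
        rcases hx with rfl | rfl
        · exact he
        · exact hf
      · by_contra h; exact he (by simpa using hm e h)
      · by_contra h; exact hf (by simpa using hm f h)
  have hee := he e (by simp)
  have hff := he f (by simp)
  simp only [List.mem_cons, List.not_mem_nil, or_false, not_or] at hee hff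
  have h1 : s c ≠ a := fun h => hca' (by rw [← h, hh])
  have h1' : s c ≠ s a := fun h => hca (s.injective h)
  have hcomm : ∀ x y : Ω, s * swap x y * s⁻¹ = swap (s x) (s y) := fun x y =>
    (Equiv.swap_apply_apply s x y).symm
  have hu : s * (swap a c * swap (s a) (s c)) * s⁻¹ = swap a c * swap (s a) (s c) := by
    rw [show s * (swap a c * swap (s a) (s c)) * s⁻¹ =
      (s * swap a c * s⁻¹) * (s * swap (s a) (s c) * s⁻¹) by group, hcomm, hcomm, hh, hh]
    ext x
    simp only [Perm.coe_mul, Function.comp_apply, swap_apply_def]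
    grind
  have hv : s * (swap a (s a) * swap e f) * s⁻¹ = swap a (s a) * swap e f := by
    rw [show s * (swap a (s a) * swap e f) * s⁻¹ =
      (s * swap a (s a) * s⁻¹) * (s * swap e f * s⁻¹) by group, hcomm, hcomm, hh,
      swap_comm (s a) a]
    rcases hinv with ⟨p, q⟩ | ⟨p, q⟩ <;> rw [p, q]
    rw [swap_comm f e]
  have sgn : ∀ x y z w : Ω, x ≠ y → z ≠ w → swap x y * swap z w ∈ alternatingGroup Ω := by
    intro x y z w hxy hzw
    rw [Perm.mem_alternatingGroup, map_mul, Perm.sign_swap hxy, Perm.sign_swap hzw]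
    decide
  refine ⟨sgn _ _ _ _ (Ne.symm ha) (Ne.symm hc), ?_⟩
  have hmem := commutator_mem_sqCent
    (x := (⟨s, hs⟩ : ↥(alternatingGroup Ω)))
    (a := ⟨_, sgn a c (s a) (s c) (Ne.symm hca) (Ne.symm h1')⟩)
    (b := ⟨_, sgn a (s a) e f (Ne.symm ha) hef⟩)
    (Subtype.ext (mul_inv_eq_iff_eq_mul.1 hu).symm) (Subtype.ext (mul_inv_eq_iff_eq_mul.1 hv).symm)
  convert hmem using 1
  refine Subtype.ext ?_
  ext x
  simp only [Subgroup.coe_mul, InvMemClass.coe_inv, mul_inv_rev, swap_inv, Perm.coe_mul,
    Function.comp_apply, swap_apply_def]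
  grind

/-- In degree other than 4 and 5, an involution is a product of squares in its centralizer. -/
theorem mem_sqCent_self {σ : ↥(alternatingGroup Ω)} (h2 : σ * σ = 1)
    (h6 : 6 ≤ Fintype.card Ω) : σ ∈ sqCent σ := by
  classical
  suffices h : ∀ n, ∀ π : ↥(alternatingGroup Ω), (π : Perm Ω).support.card ≤ n →
      (∀ x, (π : Perm Ω) x = x ∨ (π : Perm Ω) x = (σ : Perm Ω) x) → π ∈ sqCent σ from
    h _ σ le_rfl fun x => Or.inr rfl
  intro n
  induction n with
  | zero =>
      intro π hn _
      have : (π : Perm Ω).support = ∅ := Finset.card_eq_zero.1 (Nat.le_zero.1 hn)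
      rw [show π = 1 from Subtype.ext (Perm.support_eq_empty_iff.1 this)]
      exact one_mem _
  | succ n ih =>
      intro π hn hπ
      by_cases h1 : π = 1
      · rw [h1]; exact one_mem _
      have hh : ∀ x, (σ : Perm Ω) ((σ : Perm Ω) x) = x := fun x => by
        have := congrArg (fun g : ↥(alternatingGroup Ω) => (g : Perm Ω) x) h2
        simpa using this
      have hπne : (π : Perm Ω) ≠ 1 := fun h => h1 (Subtype.ext h)
      obtain ⟨a, ha⟩ : ∃ a, (π : Perm Ω) a ≠ a := by
        by_contra! h
        exact hπne (Equiv.ext h)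
      have hmoved : ∀ x, (π : Perm Ω) x ≠ x →
          (π : Perm Ω) x = (σ : Perm Ω) x ∧ (π : Perm Ω) ((σ : Perm Ω) x) = x := by
        intro x hx
        have hx' := (hπ x).resolve_left hx
        refine ⟨hx', ?_⟩
        rcases hπ ((σ : Perm Ω) x) with h | h
        · exact absurd ((π : Perm Ω).injective (h.trans hx'.symm)) (fun e => hx (hx'.trans e))
        · rw [h, hh]
      obtain ⟨c, hc, hca, hca'⟩ : ∃ c, (π : Perm Ω) c ≠ c ∧ c ≠ a ∧ c ≠ (σ : Perm Ω) a := by
        by_contra! hcon
        have hπeq : (π : Perm Ω) = swap a ((σ : Perm Ω) a) := by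
          ext x
          rcases eq_or_ne x a with rfl | hxa
          · rw [swap_apply_left]; exact (hmoved x ha).1
          rcases eq_or_ne x ((σ : Perm Ω) a) with rfl | hxb
          · rw [swap_apply_right]; exact (hmoved a ha).2
          rw [swap_apply_of_ne_of_ne hxa hxb]
          by_contra h
          exact hxb (hcon x h hxa)
        have hsig := Perm.mem_alternatingGroup.1 π.2
        rw [hπeq, Perm.sign_swap (fun e => ha ((hmoved a ha).1.trans e.symm))] at hsig
        exact absurd hsig (by decide)
      have hσa : (σ : Perm Ω) a ≠ a := fun e => ha ((hmoved a ha).1.trans e)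
      have hσc : (σ : Perm Ω) c ≠ c := fun e => hc ((hmoved c hc).1.trans e)
      obtain ⟨hmem, hsw⟩ := swap_mul_swap_mem h2 h6 hσa hσc hca hca'
      have := ih (⟨_, hmem⟩ * π) ?_ ?_
      · simpa only [inv_mul_cancel_left] using mul_mem (inv_mem hsw) this
      all_goals
        have hval : ∀ x, ((⟨_, hmem⟩ * π : ↥(alternatingGroup Ω)) : Perm Ω) x =
            if x = a ∨ x = (σ : Perm Ω) a ∨ x = c ∨ x = (σ : Perm Ω) c then x
            else (π : Perm Ω) x := by
          intro x
          have := hmoved a ha
          have := hmoved c hc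
          have := hh a
          have := hh c
          have := hmoved x
          have := hπ x
          simp only [Subgroup.coe_mul, Perm.coe_mul, Function.comp_apply, swap_apply_def]
          grind
      · refine Nat.le_of_lt_succ (lt_of_lt_of_le (Finset.card_lt_card ?_) hn)
        refine Finset.ssubset_iff_of_subset (fun x hx => ?_) |>.2 ⟨a, by simpa using ha, ?_⟩
        · rw [Perm.mem_support, hval] at hx
          rw [Perm.mem_support]
          split at hx
          · exact absurd rfl hx
          · exact hx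
        · rw [Perm.mem_support, hval, if_pos (Or.inl rfl)]; simp
      · intro x
        rw [hval]
        split
        · exact Or.inl rfl
        · exact hπ x

end Cfsg.Agent.Lib.TwoCentralAlt
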