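import Mathlib
import Cfsg.Prelude.Def_SporadicB
import Cfsg.Prelude.Def_TwoFusion
import Cfsg.Agent.Lib.TwoCentralAlt.Square
import Cfsg.Agent.Lib.Involution.ThompsonTransfer

/-!
A 2-central involution `J` with centralizer `⟨J⟩ × T`: outside the alternating groups of degree
4 and 5 there is a subgroup of index 2.
-/

set_option autoImplicit false

namespace Cfsg.Agent.Lib.TwoCentralAlt

variable {G : Type*} [Group G]

/-- The data of an involution whose centralizer is `⟨J⟩ × T`. -/
structure Split (J : G) (T : Subgroup G) : Prop where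
  ord : orderOf J = 2
  dir : Cfsg.IsInternalDirectProduct (Subgroup.zpowers J) T (Subgroup.centralizer ({J} : Set G))

variable {J : G} {T : Subgroup G}

theorem Split.sq (h : Split J T) : J * J = 1 := by
  rw [← pow_two, ← h.ord, pow_orderOf_eq_one]

theorem Split.ne_one (h : Split J T) : J ≠ 1 := fun e => by
  have := h.ord; rw [e, orderOf_one] at this; norm_num at this

theorem Split.mem_cent {x : G} (hx : x ∈ Subgroup.centralizer ({J} : Set G)) : x * J = J * x :=
  Subgroup.mem_centralizer_singleton_iff.1 hx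

theorem Split.comm (h : Split J T) {x : G} (hx : x ∈ T) : J * x = x * J :=
  h.dir.2.2.1 J (Subgroup.mem_zpowers J) x hx

theorem Split.le_cent (h : Split J T) : T ≤ Subgroup.centralizer ({J} : Set G) := h.dir.2.1

theorem Split.self_not_mem (h : Split J T) : J ∉ T := fun hJ => h.ne_one <| by
  have : J ∈ Subgroup.zpowers J ⊓ T := ⟨Subgroup.mem_zpowers J, hJ⟩
  rwa [h.dir.2.2.2.1, Subgroup.mem_bot] at this

theorem Split.cases (h : Split J T) {x : G} (hx : x ∈ Subgroup.centralizer ({J} : Set G)) :
    x ∈ T ∨ J * x ∈ T := by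
  let K : Subgroup G :=
    { carrier := {x | x ∈ T ∨ (J * x ∈ T)}
      one_mem' := Or.inl (one_mem T)
      mul_mem' := by
        rintro a b (ha | ha) (hb | hb)
        · exact Or.inl (mul_mem ha hb)
        · refine Or.inr ?_
          rw [← mul_assoc, h.comm ha, mul_assoc]
          exact mul_mem ha hb
        · refine Or.inr ?_
          rw [← mul_assoc]
          exact mul_mem ha hb
        · refine Or.inl ?_
          have e : (J * a) * (J * b) = a * b := by
            have := h.comm ha
            rw [← mul_assoc (J * a) J b, ← this, ← mul_assoc J J a, h.sq, one_mul]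
          rw [← e]
          exact mul_mem ha hb
      inv_mem' := by
        rintro a (ha | ha)
        · exact Or.inl (inv_mem ha)
        · refine Or.inr ?_
          have hJi : J⁻¹ = J := inv_eq_of_mul_eq_one_left h.sq
          have h1 : (J * a)⁻¹ * J = J * (J * a)⁻¹ := (h.comm (inv_mem ha)).symm
          rw [mul_inv_rev, hJi, mul_assoc, h.sq, mul_one] at h1
          rw [h1, ← mul_assoc, h.sq, one_mul]
          have := inv_mem ha
          rw [mul_inv_rev, hJi] at this
          exact this }
  have hle : Subgroup.zpowers J ⊔ T ≤ K := by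
    refine sup_le ((Subgroup.zpowers_le).2 (Or.inr ?_)) fun a ha => Or.inl ha
    rw [h.sq]; exact one_mem T
  rw [← h.dir.2.2.2.2] at hx
  exact hle hx

theorem Split.mul_self_mem (h : Split J T) {x : G}
    (hx : x ∈ Subgroup.centralizer ({J} : Set G)) : x * x ∈ T := by
  rcases h.cases hx with hx' | hx'
  · exact mul_mem hx' hx'
  · have e : (J * x) * (J * x) = x * x := by
      have h1 := Split.mem_cent hx
      rw [← mul_assoc (J * x) J x, mul_assoc J x J, h1, ← mul_assoc, h.sq, one_mul]
    rw [← e]
    exact mul_mem hx' hx'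

/-- No element of `T` that is a product of squares in its centralizer is conjugate to `J`. -/
theorem Split.not_conj (h : Split J T) {s : ↥T} (hs : s ∈ sqCent s) (g : G) :
    g * (s : G) * g⁻¹ ≠ J := by
  intro hg
  have hsub : sqCent s ≤ T.comap ((MulAut.conj g).toMonoidHom.comp T.subtype) := by
    rw [sqCent, Subgroup.closure_le]
    rintro _ ⟨a, ha, rfl⟩
    have hc : g * (a : G) * g⁻¹ ∈ Subgroup.centralizer ({J} : Set G) := by
      rw [Subgroup.mem_centralizer_singleton_iff, ← hg]
      have : (a : G) * s = s * a := congrArg Subtype.val ha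
      calc g * (a : G) * g⁻¹ * (g * s * g⁻¹) = g * (a * s) * g⁻¹ := by group
        _ = g * (s * a) * g⁻¹ := by rw [this]
        _ = _ := by group
    have := h.mul_self_mem hc
    simpa [Subgroup.mem_comap, mul_assoc] using this
  have := hsub hs
  simp only [Subgroup.mem_comap, MonoidHom.coe_comp, Function.comp_apply, Subgroup.coe_subtype,
    MulEquiv.coe_toMonoidHom, MulAut.conj_apply, hg] at this
  exact h.self_not_mem this

variable [Finite G]

theorem Split.exists_sylow (h : Split J T) (hJ : Cfsg.IsTwoCentralInvolution J) :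
    ∃ P : Sylow 2 G, J ∈ P ∧ (P : Subgroup G) ≤ Subgroup.centralizer ({J} : Set G) := by
  obtain ⟨-, P, hJP, hc⟩ := hJ
  exact ⟨P, hJP, fun x hx => Subgroup.mem_centralizer_singleton_iff.2 (hc x hx)⟩

theorem Split.relIndex_inf (h : Split J T) {P : Subgroup G} (hJP : J ∈ P)
    (hP : P ≤ Subgroup.centralizer ({J} : Set G)) : (P ⊓ T).relIndex P = 2 := by
  rw [Subgroup.relIndex, Subgroup.index_eq_two_iff]
  refine ⟨⟨J, hJP⟩, fun b => ?_⟩
  simp only [Subgroup.mem_subgroupOf, Subgroup.mem_inf, Subgroup.coe_mul, mul_mem b.2 hJP,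
    b.2, true_and]
  have hb := hP b.2
  have hbJ : (b : G) * J = J * b := Split.mem_cent hb
  rcases h.cases hb with hb' | hb'
  · refine Or.inr ⟨hb', fun hc => h.self_not_mem ?_⟩
    simpa using mul_mem (inv_mem hb') hc
  · refine Or.inl ⟨hbJ ▸ hb', fun hc => h.self_not_mem ?_⟩
    simpa using mul_mem hb' (inv_mem hc)

/-- Without a subgroup of index 2, `J` fuses into `T`. -/
theorem Split.exists_fused (h : Split J T) (hJ : Cfsg.IsTwoCentralInvolution J)
    (h2 : ∀ N : Subgroup G, N.Normal → N.index ≠ 2) : ∃ g : G, g * J * g⁻¹ ∈ T := by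
  obtain ⟨P, hJP, hP⟩ := h.exists_sylow hJ
  rcases Involution.thompson_transfer P _ inf_le_left (h.relIndex_inf hJP hP) J h.ord with
    ⟨M, hM, hi, -⟩ | ⟨g, hg⟩
  · exact absurd hi (h2 M hM)
  · exact ⟨g, hg.2⟩

/-- The degree is 4 or 5. -/
theorem Split.degree (h : Split J T) (hJ : Cfsg.IsTwoCentralInvolution J)
    (h2 : ∀ N : Subgroup G, N.Normal → N.index ≠ 2) {m : ℕ}
    (e : ↥T ≃* ↥(alternatingGroup (Fin m))) : m = 4 ∨ m = 5 := by
  obtain ⟨g, hg⟩ := h.exists_fused hJ h2
  set s : ↥T := ⟨_, hg⟩ with hs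
  have hs2 : e s * e s = 1 := by
    rw [← map_mul, show s * s = 1 from Subtype.ext ?_, map_one]
    show (g * J * g⁻¹) * (g * J * g⁻¹) = 1
    calc (g * J * g⁻¹) * (g * J * g⁻¹) = g * (J * J) * g⁻¹ := by group
      _ = 1 := by rw [h.sq]; group
  have hs1 : e s ≠ 1 := by
    rw [Ne, map_eq_one_iff e e.injective]
    intro h1
    apply h.ne_one
    have : g * J * g⁻¹ = 1 := congrArg Subtype.val h1
    exact conj_eq_one_iff.1 this
  rcases Nat.lt_or_ge m 6 with hm | hm
  · interval_cases m <;> first | omega | (exfalso; revert hs2 hs1; generalize e s = z; revert z; decide)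
  · refine absurd ?_ (h.not_conj (s := s) ?_ g⁻¹)
    · rw [hs]; group
    · have hmem := mem_sqCent_self hs2 (by simpa using hm)
      have hle : (sqCent (e s)).map e.symm.toMonoidHom ≤ sqCent s := by
        rw [sqCent, MonoidHom.map_closure, Subgroup.closure_le]
        rintro _ ⟨_, ⟨a, ha, rfl⟩, rfl⟩
        refine Subgroup.subset_closure ⟨e.symm a, ?_, (map_mul e.symm a a).symm⟩
        simpa using congrArg e.symm ha
      simpa using hle (Subgroup.mem_map_of_mem _ hmem)

end Cfsg.Agent.Lib.TwoCentralAlt
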