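import Mathlib
import Cfsg.Agent.Lib.Involution.ThompsonTransfer

/-!
A self-centralizing elementary Sylow 2-subgroup of order 8 in a group without subgroups of
index 2: all involutions are conjugate.
-/

set_option autoImplicit false

namespace Cfsg.Agent.Lib.TwoCentralAlt

variable {H : Type*} [Group H]

/-- An elementary Sylow 2-subgroup of order 8, self-centralizing; no subgroup of index 2. -/
structure Eight (P : Sylow 2 H) : Prop where
  card : Nat.card ↥(P : Subgroup H) = 8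
  exp : ∀ x ∈ P, x * x = 1
  self : ∀ x : H, (∀ y ∈ P, x * y = y * x) → x ∈ P
  noTwo : ∀ N : Subgroup H, N.Normal → N.index ≠ 2

variable [Finite H] {P : Sylow 2 H}

theorem Eight.comm (E : Eight P) {x y : H} (hx : x ∈ P) (hy : y ∈ P) : x * y = y * x := by
  have hxy := E.exp _ (mul_mem hx hy)
  have hxi : x⁻¹ = x := inv_eq_of_mul_eq_one_left (E.exp x hx)
  have hyi : y⁻¹ = y := inv_eq_of_mul_eq_one_left (E.exp y hy)
  calc x * y = (x * y)⁻¹ := (inv_eq_of_mul_eq_one_left hxy).symm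
    _ = y * x := by rw [mul_inv_rev, hxi, hyi]

/-- A hyperplane of `P` avoiding `u`. -/
theorem Eight.exists_hyperplane (E : Eight P) {u : H} (hu : u ∈ P) (hu1 : u ≠ 1) :
    ∃ Q : Subgroup H, Q ≤ (P : Subgroup H) ∧ Q.relIndex (P : Subgroup H) = 2 ∧ u ∉ Q := by
  obtain ⟨Q, -, hQ⟩ := (Set.toFinite {Q : Subgroup H | Q ≤ (P : Subgroup H) ∧ u ∉ Q}).exists_le_maximal
    (a := ⊥) ⟨bot_le, by simpa using hu1⟩
  obtain ⟨⟨hQP, huQ⟩, hmax⟩ := hQ
  refine ⟨Q, hQP, ?_, huQ⟩
  rw [Subgroup.relIndex, Subgroup.index_eq_two_iff]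
  refine ⟨⟨u, hu⟩, fun b => ?_⟩
  simp only [Subgroup.mem_subgroupOf, Subgroup.coe_mul]
  by_cases hb : (b : H) ∈ Q
  · refine Or.inr ⟨hb, fun h => huQ ?_⟩
    simpa using mul_mem (inv_mem hb) h
  refine Or.inl ⟨?_, hb⟩
  let K : Subgroup H :=
    { carrier := {x | x ∈ Q ∨ (b : H) * x ∈ Q}
      one_mem' := Or.inl (one_mem Q)
      mul_mem' := by
        rintro x y (hx | hx) (hy | hy)
        · exact Or.inl (mul_mem hx hy)
        · refine Or.inr ?_
          rw [← mul_assoc, E.comm b.2 (hQP hx), mul_assoc]; exact mul_mem hx hy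
        · refine Or.inr ?_
          rw [← mul_assoc]; exact mul_mem hx hy
        · refine Or.inl ?_
          have hxP : x ∈ (P : Subgroup H) := by simpa using mul_mem (inv_mem b.2) (hQP hx)
          have e : ((b : H) * x) * (b * y) = x * y := by
            rw [E.comm b.2 hxP, mul_assoc, ← mul_assoc (b : H) b y, E.exp _ b.2, one_mul]
          rw [← e]; exact mul_mem hx hy
      inv_mem' := by
        rintro x (hx | hx)
        · exact Or.inl (inv_mem hx)
        · refine Or.inr ?_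
          have hxP : x ∈ (P : Subgroup H) := by simpa using mul_mem (inv_mem b.2) (hQP hx)
          rwa [inv_eq_of_mul_eq_one_left (E.exp x hxP)] }
  have hKP : K ≤ (P : Subgroup H) := by
    rintro x (hx | hx)
    · exact hQP hx
    · simpa using mul_mem (inv_mem b.2) (hQP hx)
  have hQK : Q ≤ K := fun x hx => Or.inl hx
  have hbK : (b : H) ∈ K := Or.inr (by rw [E.exp _ b.2]; exact one_mem Q)
  by_cases huK : u ∈ K
  · exact huK.resolve_left huQ
  · exact absurd (hmax ⟨hKP, huK⟩ hQK hbK) hb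

/-- The class of `u` inside `P`. -/
def orb (P : Sylow 2 H) (u : H) : Set H := {v | v ∈ P ∧ IsConj u v}

theorem Eight.orb_eq_normalizer (E : Eight P) {u v : H} (hu : u ∈ P) (hv : v ∈ orb P u) :
    ∃ n ∈ Subgroup.normalizer ((P : Subgroup H) : Set H), n * u * n⁻¹ = v := by
  haveI : Fact (Nat.Prime 2) := ⟨Nat.prime_two⟩
  haveI : IsMulCommutative ↥(P : Subgroup H) :=
    ⟨⟨fun a b => Subtype.ext (E.comm a.2 b.2)⟩⟩
  obtain ⟨g, hg⟩ := isConj_iff.1 hv.2
  obtain ⟨n, hn, hne⟩ := P.conj_eq_normalizer_conj_of_mem u g⁻¹ hu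
    (by rw [inv_inv, hg]; exact hv.1)
  rw [inv_inv, hg] at hne
  exact ⟨n⁻¹, inv_mem hn, by rw [inv_inv]; exact hne.symm⟩

theorem Eight.ncard_orb_odd (E : Eight P) {u : H} (hu : u ∈ P) :
    Odd (Nat.card (orb P u)) := by
  classical
  haveI : Fact (Nat.Prime 2) := ⟨Nat.prime_two⟩
  set M := Subgroup.normalizer ((P : Subgroup H) : Set H) with hM
  letI : MulAction ↥M H := MulAction.compHom H ((MulAut.conj).comp M.subtype)
  have hsmul : ∀ (n : ↥M) (x : H), n • x = n * x * (n : H)⁻¹ := fun n x => rfl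
  have horb : MulAction.orbit ↥M u = orb P u := by
    ext v
    constructor
    · rintro ⟨n, rfl⟩
      refine ⟨?_, isConj_iff.2 ⟨n, rfl⟩⟩
      exact (Subgroup.mem_normalizer_iff.1 n.2 u).1 hu
    · intro hv
      obtain ⟨n, hn, rfl⟩ := E.orb_eq_normalizer hu hv
      exact ⟨⟨n, hn⟩, rfl⟩
  have hstab : (P : Subgroup H).subgroupOf M ≤ MulAction.stabilizer ↥M u := by
    intro x hx
    rw [MulAction.mem_stabilizer_iff, hsmul, E.comm (Subgroup.mem_subgroupOf.1 hx) hu,
      mul_inv_cancel_right]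
  rw [← horb, Nat.card_coe_set_eq, ← MulAction.index_stabilizer]
  have hodd : Odd ((P : Subgroup H).subgroupOf M).index := by
    rw [← Nat.not_even_iff_odd, even_iff_two_dvd]
    intro h
    exact P.not_dvd_index (h.trans (Subgroup.relIndex_dvd_index_of_le Subgroup.le_normalizer))
  exact hodd.of_dvd_nat (Subgroup.index_dvd_of_le hstab)

theorem Eight.orb_ne_singleton (E : Eight P) {u : H} (hu : u ∈ P) (hu1 : u ≠ 1) :
    Nat.card (orb P u) ≠ 1 := by
  intro h
  obtain ⟨Q, hQP, hQi, huQ⟩ := E.exists_hyperplane hu hu1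
  have hou : orderOf u = 2 :=
    orderOf_eq_prime (by rw [pow_two]; exact E.exp u hu) hu1
  rcases Involution.thompson_transfer P Q hQP hQi u hou with ⟨M, hM, hi, -⟩ | ⟨g, hg⟩
  · exact E.noTwo M hM hi
  · obtain ⟨hsub, -⟩ := (Nat.card_eq_one_iff_unique).1 h
    have := congrArg Subtype.val (hsub.elim (⟨_, hQP hg, isConj_iff.2 ⟨g, rfl⟩⟩ : orb P u)
      ⟨u, hu, IsConj.refl u⟩)
    simp only at this
    exact huQ (this ▸ hg)

/-- All involutions are conjugate. -/
theorem Eight.isConj (E : Eight P) {x y : H} (hx : orderOf x = 2) (hy : orderOf y = 2) :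
    IsConj x y := by
  classical
  haveI : Fact (Nat.Prime 2) := ⟨Nat.prime_two⟩
  suffices h : ∀ u v : H, u ∈ P → v ∈ P → u ≠ 1 → v ≠ 1 → IsConj u v by
    have into : ∀ z : H, orderOf z = 2 → ∃ u, u ∈ P ∧ u ≠ 1 ∧ IsConj z u := by
      intro z hz
      obtain ⟨Q, hQ⟩ := IsPGroup.exists_le_sylow (p := 2)
        (IsPGroup.of_card (n := 1) (by rw [Nat.card_zpowers, hz, pow_one]) :
          IsPGroup 2 ↥(Subgroup.zpowers z))
      obtain ⟨g, rfl⟩ := MulAction.exists_smul_eq H Q P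
      refine ⟨g * z * g⁻¹, ?_, ?_, isConj_iff.2 ⟨g, rfl⟩⟩
      · exact ⟨z, hQ (Subgroup.mem_zpowers z), rfl⟩
      · rw [Ne, conj_eq_one_iff]; intro e; rw [e, orderOf_one] at hz; norm_num at hz
    obtain ⟨u, hu, hu1, hxu⟩ := into x hx
    obtain ⟨v, hv, hv1, hyv⟩ := into y hy
    exact (hxu.trans (h u v hu hv hu1 hv1)).trans hyv.symm
  intro u v hu hv hu1 hv1
  by_contra hne
  set S : Set H := ((P : Subgroup H) : Set H) \ {1} with hS
  have hS7 : S.ncard = 7 := by
    rw [hS, Set.ncard_sdiff_singleton_of_mem (one_mem (P : Subgroup H))]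
    rw [← Nat.card_coe_set_eq]
    have := E.card
    rw [SetLike.coe_sort_coe] at *
    omega
  have sub : ∀ w, w ∈ P → w ≠ 1 → orb P w ⊆ S := fun w hw hw1 z hz =>
    ⟨hz.1, fun e => hw1 (by
      obtain ⟨g, hg⟩ := isConj_iff.1 hz.2
      rw [Set.mem_singleton_iff] at e
      rw [e] at hg
      exact conj_eq_one_iff.1 hg)⟩
  have big : ∀ w, w ∈ P → w ≠ 1 → 3 ≤ (orb P w).ncard := by
    intro w hw hw1
    have h1 := E.ncard_orb_odd hw
    have h2 := E.orb_ne_singleton hw hw1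
    rw [Nat.card_coe_set_eq] at h1 h2
    obtain ⟨k, hk⟩ := h1
    omega
  have disj : ∀ a b, ¬ IsConj a b → Disjoint (orb P a) (orb P b) := fun a b hab =>
    Set.disjoint_left.2 fun z hz hz' => hab (hz.2.trans hz'.2.symm)
  have bu := big u hu hu1
  have bv := big v hv hv1
  have hd := disj u v hne
  have hU : (orb P u ∪ orb P v).ncard = (orb P u).ncard + (orb P v).ncard :=
    Set.ncard_union_eq hd
  have hle : (orb P u ∪ orb P v) ⊆ S := Set.union_subset (sub u hu hu1) (sub v hv hv1)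
  have h7 := Set.ncard_le_ncard hle
  by_cases hw : ∃ w ∈ S, w ∉ orb P u ∪ orb P v
  · obtain ⟨w, hwS, hwn⟩ := hw
    simp only [Set.mem_union, not_or] at hwn
    have hw1 : w ≠ 1 := fun e => hwS.2 e
    have bw := big w hwS.1 hw1
    have d1 := disj u w fun h => hwn.1 ⟨hwS.1, h⟩
    have d2 := disj v w fun h => hwn.2 ⟨hwS.1, h⟩
    have h3 := Set.ncard_le_ncard (Set.union_subset hle (sub w hwS.1 hw1))
    rw [Set.ncard_union_eq (Set.disjoint_union_left.2 ⟨d1, d2⟩)] at h3
    omega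
  · push Not at hw
    have := Set.ncard_le_ncard (fun w h => hw w h : S ⊆ orb P u ∪ orb P v)
    have o1 := E.ncard_orb_odd hu
    have o2 := E.ncard_orb_odd hv
    rw [Nat.card_coe_set_eq, Nat.odd_iff] at o1 o2
    omega

end Cfsg.Agent.Lib.TwoCentralAlt
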