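import Mathlib

/-!
Element facts about the alternating groups of degree 4 and 5.
-/

set_option autoImplicit false

namespace Cfsg.Agent.Lib.TwoCentralAlt

/-- The properties used of `A₄` and `A₅`. -/
structure SmallProps (X : Type*) [Group X] : Prop where
  eighth : ∀ σ : X, σ ^ 8 = 1 → σ * σ = 1
  comm_inv : ∀ a : X, a * a = 1 → a ≠ 1 → ∀ c : X, a * c = c * a → c * c = 1
  normal_inv : ∀ K : Subgroup X, K.Normal → K ≠ ⊥ → ∃ k ∈ K, k ≠ 1 ∧ k * k = 1

theorem comm_four : ∀ x : ↥(alternatingGroup (Fin 4)), ¬ x = 1 → ¬ x * x = 1 →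
    ∃ g : ↥(alternatingGroup (Fin 4)), ¬ x * (g * x⁻¹ * g⁻¹) = 1 ∧
      (x * (g * x⁻¹ * g⁻¹)) * (x * (g * x⁻¹ * g⁻¹)) = 1 := by decide +kernel

theorem smallProps_four : SmallProps ↥(alternatingGroup (Fin 4)) where
  eighth := by decide +kernel
  comm_inv := by simp only [Ne]; decide +kernel
  normal_inv K hK hne := by
    obtain ⟨x, hx, hx1⟩ := K.bot_or_exists_ne_one.resolve_left hne
    by_cases h2 : x * x = 1
    · exact ⟨x, hx, hx1, h2⟩
    obtain ⟨g, hg1, hg2⟩ := comm_four x hx1 h2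
    exact ⟨_, mul_mem hx (hK.conj_mem _ (inv_mem hx) g), hg1, hg2⟩

theorem smallProps_five : SmallProps ↥(alternatingGroup (Fin 5)) where
  eighth := by decide +kernel
  comm_inv := by simp only [Ne]; decide +kernel
  normal_inv K hK hne := by
    have : IsSimpleGroup ↥(alternatingGroup (Fin 5)) := alternatingGroup.isSimpleGroup_five
    obtain ⟨k, h1, h2⟩ : ∃ k : ↥(alternatingGroup (Fin 5)), ¬ k = 1 ∧ k * k = 1 := by
      decide +kernel
    exact ⟨k, by rw [(IsSimpleGroup.eq_bot_or_eq_top_of_normal K hK).resolve_left hne]; trivial,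
      h1, h2⟩

theorem SmallProps.congr {X Y : Type*} [Group X] [Group Y] (h : SmallProps X) (e : Y ≃* X) :
    SmallProps Y where
  eighth σ hσ := e.injective (by
    rw [map_mul, map_one]; exact h.eighth _ (by rw [← map_pow, hσ, map_one]))
  comm_inv a h1 h2 c h3 := e.injective (by
    rw [map_mul, map_one]
    exact h.comm_inv (e a) (by rw [← map_mul, h1, map_one])
      (fun h' => h2 ((map_eq_one_iff e e.injective).1 h')) (e c) (by rw [← map_mul, h3, map_mul]))
  normal_inv K hK hne := by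
    obtain ⟨k, hk, hk1, hk2⟩ := h.normal_inv (K.map e.toMonoidHom)
      (hK.map _ e.surjective) (fun h' => hne ((Subgroup.map_eq_bot_iff_of_injective K e.injective).1 h'))
    obtain ⟨y, hy, rfl⟩ := hk
    exact ⟨y, hy, fun h' => hk1 (by simp [h']), e.injective (by simpa using hk2)⟩

end Cfsg.Agent.Lib.TwoCentralAlt
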