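import Mathlib
import Cfsg.Agent.Lib.TwoCentralAlt.Basic
import Cfsg.Agent.Lib.TwoCentralAlt.Eight
import Cfsg.Agent.Lib.TwoCentralAlt.Small

/-!
An involution centralizer `⟨J⟩ × A₄` or `⟨J⟩ × A₅` in a nonsolvable group without subgroups of
index 2: the subgroup generated by the involutions is a simple normal subgroup.
-/

set_option autoImplicit false

namespace Cfsg.Agent.Lib.TwoCentralAlt

variable {G : Type*} [Group G]

/-- The standing hypotheses. -/
structure Hyp (J : G) (T : Subgroup G) : Prop where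
  hns : ¬ Group.IsSolvable G
  noTwo : ∀ N : Subgroup G, N.Normal → N.index ≠ 2
  sp : Split J T
  sm : SmallProps ↥T
  hcard : Nat.card ↥T = 12 ∨ Nat.card ↥T = 60

/-- The subgroup generated by the involutions. -/
abbrev invGen (G : Type*) [Group G] : Subgroup G := Subgroup.normalClosure {x : G | x * x = 1}

theorem mem_invGen {x : G} (h : x * x = 1) : x ∈ invGen G := Subgroup.subset_normalClosure h

theorem invGen_le {K : Subgroup G} (h : ∀ x : G, x * x = 1 → x ∈ K) : invGen G ≤ K := by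
  refine (Subgroup.closure_le K).2 fun y hy => ?_
  obtain ⟨a, ha, hay⟩ := Group.mem_conjugatesOfSet_iff.1 hy
  obtain ⟨g, rfl⟩ := isConj_iff.1 hay
  refine h _ ?_
  calc g * a * g⁻¹ * (g * a * g⁻¹) = g * (a * a) * g⁻¹ := by group
    _ = 1 := by rw [show a * a = 1 from ha]; group

variable [Finite G]

/-- An involution without fixed points inverts. -/
theorem inv_of_free (K : Subgroup G) {u : G} (hu : u * u = 1)
    (hn : ∀ k ∈ K, u * k * u⁻¹ ∈ K) (hf : ∀ k ∈ K, u * k = k * u → k = 1) :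
    ∀ k ∈ K, u * k * u⁻¹ = k⁻¹ := by
  intro k hk
  let φ : ↥K →* ↥K :=
    { toFun := fun a => ⟨u * a * u⁻¹, hn a a.2⟩
      map_one' := Subtype.ext (by simp)
      map_mul' := fun a b => Subtype.ext (by simp [mul_assoc]) }
  have hφ : MonoidHom.FixedPointFree φ := fun a ha => by
    refine Subtype.ext (hf a a.2 ?_)
    have := congrArg Subtype.val ha
    change u * a * u⁻¹ = a at this
    exact mul_inv_eq_iff_eq_mul.1 this
  have h2 : Function.Involutive φ := fun a => Subtype.ext <| by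
    change u * (u * a * u⁻¹) * u⁻¹ = a
    have hui : u⁻¹ = u := inv_eq_of_mul_eq_one_left hu
    rw [hui]
    calc u * (u * a * u) * u = (u * u) * a * (u * u) := by group
      _ = a := by simp [hu]
  exact congrArg Subtype.val (congrFun (hφ.coe_eq_inv_of_involutive h2) ⟨k, hk⟩)

variable {J : G} {T : Subgroup G} {P : Sylow 2 G}

theorem Hyp.card_cent (H : Hyp J T) :
    Nat.card ↥(Subgroup.centralizer ({J} : Set G)) = 2 * Nat.card ↥T := by
  have h2 := H.sp.relIndex_inf (P := Subgroup.centralizer ({J} : Set G))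
    (Subgroup.mem_centralizer_singleton_iff.2 rfl) le_rfl
  rw [inf_eq_right.2 H.sp.le_cent] at h2
  have := Subgroup.relIndex_mul_relIndex ⊥ T (Subgroup.centralizer ({J} : Set G)) bot_le H.sp.le_cent
  rw [Subgroup.relIndex_bot_left, Subgroup.relIndex_bot_left, h2] at this
  omega

theorem Hyp.card_P (H : Hyp J T) (hPC : (P : Subgroup G) ≤ Subgroup.centralizer ({J} : Set G)) :
    Nat.card ↥(P : Subgroup G) = 8 := by
  haveI : Fact (Nat.Prime 2) := ⟨Nat.prime_two⟩
  obtain ⟨k, hk⟩ := IsPGroup.iff_card.1 P.isPGroup'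
  have hd := Subgroup.card_dvd_of_le hPC
  have hC := H.card_cent
  obtain ⟨o, ho, hC'⟩ : ∃ o, Odd o ∧ Nat.card ↥(Subgroup.centralizer ({J} : Set G)) = 8 * o := by
    rcases H.hcard with h | h
    · exact ⟨3, by decide, by omega⟩
    · exact ⟨15, by decide, by omega⟩
  rw [hC'] at hd
  refine Nat.dvd_antisymm ?_ ?_
  · refine Nat.Coprime.dvd_of_dvd_mul_right ?_ hd
    rw [hk]
    exact ((Nat.prime_two.coprime_iff_not_dvd).2 (fun h => (Nat.not_even_iff_odd.2 ho)
      (even_iff_two_dvd.2 h))).pow_left k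
  · refine Nat.Coprime.dvd_of_dvd_mul_right (k := 8) (n := (P : Subgroup G).index) ?_ ?_
    · exact ((Nat.prime_two.coprime_iff_not_dvd).2 P.not_dvd_index).pow_left 3
    · rw [Subgroup.card_mul_index]
      exact (Dvd.intro o hC'.symm).trans (Subgroup.card_subgroup_dvd_card _)

theorem Hyp.card_inf (H : Hyp J T) (hJP : J ∈ P)
    (hPC : (P : Subgroup G) ≤ Subgroup.centralizer ({J} : Set G)) :
    Nat.card ↥((P : Subgroup G) ⊓ T) = 4 := by
  have h2 := H.sp.relIndex_inf hJP hPC
  have := Subgroup.relIndex_mul_relIndex ⊥ ((P : Subgroup G) ⊓ T) (P : Subgroup G) bot_le inf_le_left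
  rw [Subgroup.relIndex_bot_left, Subgroup.relIndex_bot_left, h2, H.card_P hPC] at this
  omega

theorem Hyp.exists_inf (H : Hyp J T) (hJP : J ∈ P)
    (hPC : (P : Subgroup G) ≤ Subgroup.centralizer ({J} : Set G)) :
    ∃ a ∈ P, a ∈ T ∧ a ≠ 1 := by
  obtain ⟨a, ha, ha1⟩ := ((P : Subgroup G) ⊓ T).bot_or_exists_ne_one.resolve_left fun h => by
    have := H.card_inf hJP hPC
    rw [h, Subgroup.card_bot] at this
    omega
  exact ⟨a, ha.1, ha.2, ha1⟩

theorem Hyp.exp_P (H : Hyp J T) (hJP : J ∈ P)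
    (hPC : (P : Subgroup G) ≤ Subgroup.centralizer ({J} : Set G)) :
    ∀ x ∈ P, x * x = 1 := by
  intro x hx
  have h8 : ∀ y ∈ P, y ^ 8 = 1 := fun y hy => by
    have h := pow_card_eq_one' (x := (⟨y, hy⟩ : ↥(P : Subgroup G)))
    rw [H.card_P hPC] at h
    exact congrArg Subtype.val h
  rcases H.sp.cases (hPC hx) with h | h
  · exact congrArg Subtype.val (H.sm.eighth ⟨x, h⟩ (Subtype.ext (h8 x hx)))
  · have h1 := congrArg Subtype.val
      (H.sm.eighth ⟨J * x, h⟩ (Subtype.ext (h8 _ (mul_mem hJP hx))))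
    change (J * x) * (J * x) = 1 at h1
    have hc := Split.mem_cent (hPC hx)
    rwa [← mul_assoc (J * x) J x, mul_assoc J x J, hc, ← mul_assoc, H.sp.sq, one_mul] at h1

theorem Hyp.eight (H : Hyp J T) (hJP : J ∈ P)
    (hPC : (P : Subgroup G) ≤ Subgroup.centralizer ({J} : Set G)) : Eight P where
  card := H.card_P hPC
  exp := H.exp_P hJP hPC
  noTwo := H.noTwo
  self := by
    intro x hx
    haveI : Fact (Nat.Prime 2) := ⟨Nat.prime_two⟩
    have hxC : x ∈ Subgroup.centralizer ({J} : Set G) :=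
      Subgroup.mem_centralizer_singleton_iff.2 (hx J hJP)
    obtain ⟨a, haP, haT, ha1⟩ := H.exists_inf hJP hPC
    have haa := H.exp_P hJP hPC a haP
    have hJx := Split.mem_cent hxC
    have key : ∀ z : G, z ∈ T → a * z = z * a → z * z = 1 := fun z hz hc =>
      congrArg Subtype.val (H.sm.comm_inv ⟨a, haT⟩ (Subtype.ext haa)
        (fun h => ha1 (congrArg Subtype.val h)) ⟨z, hz⟩ (Subtype.ext hc))
    have hxx : x * x = 1 := by
      rcases H.sp.cases hxC with h | h
      · exact key x h (hx a haP).symm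
      · have h1 := key _ h (by
          rw [← mul_assoc, ← H.sp.comm haT, mul_assoc, ← hx a haP, ← mul_assoc])
        rwa [← mul_assoc (J * x) J x, mul_assoc J x J, hJx, ← mul_assoc, H.sp.sq, one_mul] at h1
    have hp : IsPGroup 2 ↥(Subgroup.zpowers x) := by
      rintro ⟨z, hz⟩
      obtain ⟨i, rfl⟩ := Subgroup.mem_zpowers_iff.1 hz
      exact ⟨1, Subtype.ext (by
        change (x ^ i) ^ (2 ^ 1) = 1
        rw [pow_one, pow_two, ← (Commute.refl x).mul_zpow, hxx, one_zpow])⟩
    have hle : Subgroup.zpowers x ≤ Subgroup.normalizer ((P : Subgroup G) : Set G) := by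
      rw [Subgroup.zpowers_le]
      refine Subgroup.centralizer_le_normalizer _ ?_
      exact Subgroup.mem_centralizer_iff.2 fun y hy => (hx y hy).symm
    have hsup := hp.to_sup_of_normal_right' P.isPGroup' hle
    have := P.is_maximal' hsup le_sup_right
    have hxm : x ∈ Subgroup.zpowers x ⊔ (P : Subgroup G) :=
      (le_sup_left : Subgroup.zpowers x ≤ _) (Subgroup.mem_zpowers x)
    rwa [this] at hxm

theorem Hyp.exists_conj (H : Hyp J T) (E : Eight P) {u : G} (hu : orderOf u = 2) :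
    ∃ g : G, g * J * g⁻¹ = u := isConj_iff.1 (E.isConj H.sp.ord hu)

theorem orderOf_two {u : G} (h : u * u = 1) (h1 : u ≠ 1) : orderOf u = 2 :=
  orderOf_eq_prime (by rw [pow_two]; exact h) h1

/-- A subgroup without involutions, normalised by all involutions, on which they act freely. -/
theorem Hyp.eq_bot (H : Hyp J T) (hJP : J ∈ P)
    (hPC : (P : Subgroup G) ≤ Subgroup.centralizer ({J} : Set G)) (K : Subgroup G)
    (hK : ∀ k ∈ K, k * k = 1 → k = 1)
    (hn : ∀ u : G, orderOf u = 2 → ∀ k ∈ K, u * k * u⁻¹ ∈ K)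
    (hf : ∀ u : G, orderOf u = 2 → ∀ k ∈ K, u * k = k * u → k = 1) : K = ⊥ := by
  rw [Subgroup.eq_bot_iff_forall]
  intro k hk
  obtain ⟨a, haP, haT, ha1⟩ := H.exists_inf hJP hPC
  have haa := H.exp_P hJP hPC a haP
  have hne : J * a ≠ 1 := fun h => H.sp.self_not_mem <| by
    rw [eq_inv_of_mul_eq_one_left h]; exact inv_mem haT
  have hinv : ∀ u : G, u * u = 1 → u ≠ 1 → ∀ l ∈ K, u * l * u⁻¹ = l⁻¹ := fun u hu h1 =>
    inv_of_free K hu (hn u (orderOf_two hu h1)) (hf u (orderOf_two hu h1))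
  have e1 := hinv J H.sp.sq H.sp.ne_one
  have e2 := hinv a haa ha1
  have e3 := hinv (J * a) (H.exp_P hJP hPC _ (mul_mem hJP haP)) hne k hk
  refine hK k hk ?_
  have e4 : (J * a) * k * (J * a)⁻¹ = J * (a * k * a⁻¹) * J⁻¹ := by group
  rw [e4, e2 k hk, e1 _ (inv_mem hk), inv_inv] at e3
  exact mul_eq_one_iff_eq_inv.2 e3

theorem Hyp.free_T (H : Hyp J T) {K : Subgroup G}
    (hn : ∀ t ∈ T, ∀ k ∈ K, t * k * t⁻¹ ∈ K) (hK : ∀ k ∈ K, k * k = 1 → k = 1) :
    ∀ k ∈ K, k * J = J * k → k = 1 := by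
  have hbot : K.subgroupOf T = ⊥ := by
    by_contra hne
    obtain ⟨k, hk, hk1, hk2⟩ := H.sm.normal_inv (K.subgroupOf T)
      ⟨fun x hx g => hn g g.2 x hx⟩ hne
    exact hk1 (Subtype.ext (hK k hk (congrArg Subtype.val hk2)))
  intro k hk hc
  have hsq := H.sp.mul_self_mem (Subgroup.mem_centralizer_singleton_iff.2 hc)
  have : (⟨k * k, hsq⟩ : ↥T) ∈ K.subgroupOf T := Subgroup.mem_subgroupOf.2 (mul_mem hk hk)
  rw [hbot, Subgroup.mem_bot] at this
  exact hK k hk (congrArg Subtype.val this)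

theorem Hyp.normal_even (H : Hyp J T) (hJP : J ∈ P)
    (hPC : (P : Subgroup G) ≤ Subgroup.centralizer ({J} : Set G)) {K : Subgroup G}
    (hN : K.Normal) (hne : K ≠ ⊥) : invGen G ≤ K := by
  have E := H.eight hJP hPC
  obtain ⟨k, hk, hk2, hk1⟩ : ∃ k ∈ K, k * k = 1 ∧ k ≠ 1 := by
    by_contra hc
    push Not at hc
    refine hne (H.eq_bot hJP hPC K hc (fun u _ k hk => hN.conj_mem k hk u) fun u hu k hk huk => ?_)
    obtain ⟨g, rfl⟩ := H.exists_conj E hu
    have := H.free_T (fun t _ x hx => hN.conj_mem x hx t) hc (g⁻¹ * k * g)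
      (by simpa using hN.conj_mem k hk g⁻¹) (by
        calc g⁻¹ * k * g * J = g⁻¹ * (k * (g * J * g⁻¹)) * g := by group
          _ = g⁻¹ * (g * J * g⁻¹ * k) * g := by rw [huk]
          _ = J * (g⁻¹ * k * g) := by group)
    calc k = g * (g⁻¹ * k * g) * g⁻¹ := by group
      _ = 1 := by rw [this]; group
  refine invGen_le fun x hx => ?_
  rcases eq_or_ne x 1 with rfl | hx1
  · exact one_mem K
  obtain ⟨g, rfl⟩ := isConj_iff.1 (E.isConj (orderOf_two hk2 hk1) (orderOf_two hx hx1))
  exact hN.conj_mem k hk g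

theorem Hyp.le_invGen (H : Hyp J T) (hJP : J ∈ P)
    (hPC : (P : Subgroup G) ≤ Subgroup.centralizer ({J} : Set G)) :
    (P : Subgroup G) ≤ invGen G := fun x hx => mem_invGen (H.exp_P hJP hPC x hx)

theorem card_quot_cent (H : Hyp J T) (E : Eight P) :
    Nat.card {u : G // orderOf u = 2} = (Subgroup.centralizer ({J} : Set G)).index := by
  set C := Subgroup.centralizer ({J} : Set G)
  refine (Nat.card_eq_of_bijective (fun q : G ⧸ C =>
    (⟨q.out * J * q.out⁻¹, by
      exact ((MulAut.conj q.out).orderOf_eq J).trans H.sp.ord⟩ : {u : G // orderOf u = 2})) ⟨?_, ?_⟩).symm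
  · intro q r h
    have h' : q.out * J * q.out⁻¹ = r.out * J * r.out⁻¹ := congrArg Subtype.val h
    rw [← QuotientGroup.out_eq' q, ← QuotientGroup.out_eq' r]
    refine QuotientGroup.eq.2 (Subgroup.mem_centralizer_singleton_iff.2 ?_)
    calc q.out⁻¹ * r.out * J = q.out⁻¹ * (r.out * J * r.out⁻¹) * r.out := by group
      _ = q.out⁻¹ * (q.out * J * q.out⁻¹) * r.out := by rw [h']
      _ = J * (q.out⁻¹ * r.out) := by group
  · rintro ⟨u, hu⟩
    obtain ⟨g, hg⟩ := H.exists_conj E hu
    obtain ⟨c, hc⟩ := QuotientGroup.mk_out_eq_mul C g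
    refine ⟨(g : G ⧸ C), Subtype.ext ?_⟩
    have hcJ := Split.mem_cent c.2
    simp only [hc, ← hg]
    calc g * c * J * (g * c)⁻¹ = g * ((c : G) * J) * (c : G)⁻¹ * g⁻¹ := by group
      _ = g * (J * c) * (c : G)⁻¹ * g⁻¹ := by rw [hcJ]
      _ = g * J * g⁻¹ := by group

theorem Hyp.not_normal (H : Hyp J T) (hJP : J ∈ P)
    (hPC : (P : Subgroup G) ≤ Subgroup.centralizer ({J} : Set G)) :
    ¬ (P : Subgroup G).Normal := by
  intro hP
  have E := H.eight hJP hPC
  have h7 : Nat.card {u : G // orderOf u = 2} = 7 := by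
    have hset : {u : G | orderOf u = 2} = ((P : Subgroup G) : Set G) \ {1} := by
      ext u
      constructor
      · intro hu
        obtain ⟨g, rfl⟩ := H.exists_conj E hu
        refine ⟨hP.conj_mem J hJP g, fun h => ?_⟩
        rw [Set.mem_ofPred_eq, Set.mem_singleton_iff.1 h, orderOf_one] at hu
        omega
      · rintro ⟨hu, hu1⟩
        exact orderOf_two (E.exp u hu) hu1
    change Nat.card ↥({u : G | orderOf u = 2}) = 7
    rw [Nat.card_coe_set_eq, hset,
      Set.ncard_sdiff_singleton_of_mem (one_mem (P : Subgroup G)), ← Nat.card_coe_set_eq]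
    have := E.card
    rw [SetLike.coe_sort_coe] at *
    omega
  have hG := (Subgroup.centralizer ({J} : Set G)).card_mul_index
  rw [← card_quot_cent H E, h7, H.card_cent] at hG
  have hQ := (P : Subgroup G).card_mul_index
  rw [E.card, Subgroup.index_eq_card] at hQ
  have hsq : Squarefree (Nat.card (G ⧸ (P : Subgroup G))) := by
    rcases H.hcard with h | h
    · rw [show Nat.card (G ⧸ (P : Subgroup G)) = 21 by omega]; decide +kernel
    · rw [show Nat.card (G ⧸ (P : Subgroup G)) = 105 by omega]; decide +kernel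
  haveI := IsZGroup.of_squarefree hsq
  haveI : Group.IsSolvable ↥(P : Subgroup G) :=
    Group.isSolvable_of_comm fun a b => Subtype.ext (E.comm a.2 b.2)
  exact H.hns ((Group.isSolvable_iff_subgroup_quotient (P : Subgroup G)).2 ⟨inferInstance, inferInstance⟩)

theorem Hyp.not_comm (H : Hyp J T) (hJP : J ∈ P)
    (hPC : (P : Subgroup G) ≤ Subgroup.centralizer ({J} : Set G)) :
    ¬ invGen G ≤ Subgroup.centralizer (invGen G : Set G) := fun h => by
  have E := H.eight hJP hPC
  refine H.not_normal hJP hPC ?_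
  have hN : invGen G = (P : Subgroup G) := by
    refine le_antisymm (fun x hx => E.self x fun y hy => ?_) (H.le_invGen hJP hPC)
    exact (Subgroup.mem_centralizer_iff.1 (h hx) y (H.le_invGen hJP hPC hy)).symm
  rw [← hN]
  exact Subgroup.normalClosure_normal

theorem Hyp.perfect (H : Hyp J T) (hJP : J ∈ P)
    (hPC : (P : Subgroup G) ≤ Subgroup.centralizer ({J} : Set G)) :
    invGen G ≤ ⁅invGen G, invGen G⁆ :=
  H.normal_even hJP hPC inferInstance fun h =>
    H.not_comm hJP hPC (Subgroup.commutator_eq_bot_iff_le_centralizer.1 h)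

theorem Hyp.centralizer_bot (H : Hyp J T) (hJP : J ∈ P)
    (hPC : (P : Subgroup G) ≤ Subgroup.centralizer ({J} : Set G)) :
    Subgroup.centralizer (invGen G : Set G) = ⊥ := by
  by_contra h
  exact H.not_comm hJP hPC (H.normal_even hJP hPC inferInstance h)

theorem Hyp.relIndex_cent (H : Hyp J T)
    (hPC : (P : Subgroup G) ≤ Subgroup.centralizer ({J} : Set G)) :
    8 * (P : Subgroup G).relIndex (Subgroup.centralizer ({J} : Set G)) = 2 * Nat.card ↥T := by
  have := Subgroup.relIndex_mul_relIndex ⊥ (P : Subgroup G)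
    (Subgroup.centralizer ({J} : Set G)) bot_le hPC
  rwa [Subgroup.relIndex_bot_left, Subgroup.relIndex_bot_left, H.card_P hPC, H.card_cent] at this

/-- Either the centralizer lies in the involution subgroup or meets it in the Sylow subgroup. -/
theorem Hyp.dich (H : Hyp J T) (hsimple : Nat.card ↥T = 60 → IsSimpleGroup ↥T) (hJP : J ∈ P)
    (hPC : (P : Subgroup G) ≤ Subgroup.centralizer ({J} : Set G)) :
    Subgroup.centralizer ({J} : Set G) ≤ invGen G ∨
      Nat.card ↥T = 12 ∧ Subgroup.centralizer ({J} : Set G) ⊓ invGen G = (P : Subgroup G) := by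
  have hPN := H.le_invGen hJP hPC
  rcases H.hcard with h | h
  · set D := Subgroup.centralizer ({J} : Set G) ⊓ invGen G with hD
    have hPD : (P : Subgroup G) ≤ D := le_inf hPC hPN
    have h3 := Subgroup.relIndex_mul_relIndex (P : Subgroup G) D
      (Subgroup.centralizer ({J} : Set G)) hPD inf_le_left
    have h3' : (P : Subgroup G).relIndex (Subgroup.centralizer ({J} : Set G)) = 3 := by
      have := H.relIndex_cent hPC
      omega
    rw [h3'] at h3
    rcases (Nat.dvd_prime Nat.prime_three).1 (Dvd.intro _ h3) with h1 | h1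
    · exact Or.inr ⟨h, le_antisymm (Subgroup.relIndex_eq_one.1 h1) hPD⟩
    · rw [h1] at h3
      refine Or.inl ((Subgroup.relIndex_eq_one.1 ?_ : _ ≤ D).trans inf_le_right)
      omega
  · haveI := hsimple h
    left
    obtain ⟨a, haP, haT, ha1⟩ := H.exists_inf hJP hPC
    have htop := (IsSimpleGroup.eq_bot_or_eq_top_of_normal ((invGen G).subgroupOf T)
      inferInstance).resolve_left fun hbot => ha1 <| by
        have hm : (⟨a, haT⟩ : ↥T) ∈ (invGen G).subgroupOf T := Subgroup.mem_subgroupOf.2 (hPN haP)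
        rw [hbot, Subgroup.mem_bot] at hm
        exact congrArg Subtype.val hm
    rw [← H.sp.dir.2.2.2.2]
    exact sup_le ((Subgroup.zpowers_le).2 (hPN hJP)) (Subgroup.subgroupOf_eq_top.1 htop)

end Cfsg.Agent.Lib.TwoCentralAlt
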