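import Mathlib
import Cfsg.Agent.Lib.TwoCentralAlt.Core

/-!
The subgroup generated by the involutions is simple and supplements the involution centralizer.
-/

set_option autoImplicit false

open scoped commutatorElement

namespace Cfsg.Agent.Lib.TwoCentralAlt

variable {G : Type*} [Group G] [Finite G] {J : G} {T : Subgroup G} {P : Sylow 2 G}

theorem Hyp.invGen_noTwo (H : Hyp J T) (hJP : J ∈ P)
    (hPC : (P : Subgroup G) ≤ Subgroup.centralizer ({J} : Set G)) :
    ∀ M : Subgroup ↥(invGen G), M.Normal → M.index ≠ 2 := by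
  intro M _ hi
  have hsub : ⁅invGen G, invGen G⁆ ≤ M.map (invGen G).subtype := Subgroup.commutator_le.2 fun a ha b hb =>
    ⟨⁅(⟨a, ha⟩ : ↥(invGen G)), ⟨b, hb⟩⁆, by
      simp only [commutatorElement_def, SetLike.mem_coe, Subgroup.mul_mem_iff_of_index_two hi,
        inv_mem_iff]
      tauto, rfl⟩
  have htop : M = ⊤ := Subgroup.map_injective (invGen G).subtype_injective <| le_antisymm
    (Subgroup.map_mono le_top) (by
      rw [← MonoidHom.range_eq_map, Subgroup.range_subtype]
      exact (H.perfect hJP hPC).trans hsub)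
  rw [htop, Subgroup.index_top] at hi
  omega

theorem Hyp.eightN (H : Hyp J T) (hJP : J ∈ P)
    (hPC : (P : Subgroup G) ≤ Subgroup.centralizer ({J} : Set G)) :
    Eight (P.subtype (H.le_invGen hJP hPC)) where
  card := by
    rw [Sylow.coe_subtype, Nat.card_congr (Subgroup.subgroupOfEquivOfLe (H.le_invGen hJP hPC)).toEquiv]
    exact H.card_P hPC
  exp x hx := Subtype.ext (H.exp_P hJP hPC x hx)
  self x hx := (H.eight hJP hPC).self x fun y hy =>
    congrArg Subtype.val (hx ⟨y, H.le_invGen hJP hPC hy⟩ hy)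
  noTwo := H.invGen_noTwo hJP hPC

theorem mem_invGen_of_ord {u : G} (hu : orderOf u = 2) : u ∈ invGen G :=
  mem_invGen (by rw [← pow_two, ← hu, pow_orderOf_eq_one])

theorem Hyp.exists_conjN (H : Hyp J T) (hJP : J ∈ P)
    (hPC : (P : Subgroup G) ≤ Subgroup.centralizer ({J} : Set G)) {u : G} (hu : orderOf u = 2) :
    ∃ n ∈ invGen G, n * J * n⁻¹ = u := by
  obtain ⟨n, hn⟩ := isConj_iff.1 ((H.eightN hJP hPC).isConj
    (x := ⟨J, mem_invGen_of_ord H.sp.ord⟩) (y := ⟨u, mem_invGen_of_ord hu⟩)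
    (Subgroup.orderOf_mk _ _ |>.trans H.sp.ord) (Subgroup.orderOf_mk _ _ |>.trans hu))
  exact ⟨n, n.2, congrArg Subtype.val hn⟩

theorem Hyp.sup_top (H : Hyp J T) (hJP : J ∈ P)
    (hPC : (P : Subgroup G) ≤ Subgroup.centralizer ({J} : Set G)) :
    Subgroup.centralizer ({J} : Set G) ⊔ invGen G = ⊤ := by
  rw [Subgroup.eq_top_iff']
  intro g
  obtain ⟨n, hn, he⟩ := H.exists_conjN hJP hPC (u := g * J * g⁻¹)
    (((MulAut.conj g).orderOf_eq J).trans H.sp.ord)
  have hc : n⁻¹ * g ∈ Subgroup.centralizer ({J} : Set G) := by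
    rw [Subgroup.mem_centralizer_singleton_iff]
    calc n⁻¹ * g * J = n⁻¹ * (g * J * g⁻¹) * g := by group
      _ = n⁻¹ * (n * J * n⁻¹) * g := by rw [he]
      _ = J * (n⁻¹ * g) := by group
  have := Subgroup.mul_mem_sup hn hc
  rwa [mul_inv_cancel_left, sup_comm] at this

theorem Hyp.free_J (H : Hyp J T) (hsimple : Nat.card ↥T = 60 → IsSimpleGroup ↥T) (hJP : J ∈ P)
    (hPC : (P : Subgroup G) ≤ Subgroup.centralizer ({J} : Set G)) {K : Subgroup G}
    (hKN : K ≤ invGen G) (hn : ∀ n ∈ invGen G, ∀ k ∈ K, n * k * n⁻¹ ∈ K)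
    (hK : ∀ k ∈ K, k * k = 1 → k = 1) : ∀ k ∈ K, k * J = J * k → k = 1 := by
  rcases H.dich hsimple hJP hPC with h | ⟨-, h⟩
  · exact H.free_T (fun t ht => hn t (h (H.sp.le_cent ht))) hK
  · intro k hk hc
    refine hK k hk (H.exp_P hJP hPC k ?_)
    have : k ∈ Subgroup.centralizer ({J} : Set G) ⊓ invGen G :=
      ⟨Subgroup.mem_centralizer_singleton_iff.2 hc, hKN hk⟩
    rwa [h] at this

theorem Hyp.isSimple (H : Hyp J T) (hsimple : Nat.card ↥T = 60 → IsSimpleGroup ↥T) (hJP : J ∈ P)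
    (hPC : (P : Subgroup G) ≤ Subgroup.centralizer ({J} : Set G)) :
    IsSimpleGroup ↥(invGen G) := by
  haveI : Nontrivial ↥(invGen G) := (Subgroup.nontrivial_iff_ne_bot _).2 fun h => H.sp.ne_one <| by
    have := mem_invGen_of_ord (u := J) H.sp.ord
    rwa [h, Subgroup.mem_bot] at this
  refine { eq_bot_or_eq_top_of_normal := fun L hL => ?_ }
  set K := L.map (invGen G).subtype with hKd
  have hKN : K ≤ invGen G := Subgroup.map_subtype_le L
  have hn : ∀ n ∈ invGen G, ∀ k ∈ K, n * k * n⁻¹ ∈ K := by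
    rintro n hn k ⟨l, hl, rfl⟩
    exact ⟨⟨n, hn⟩ * l * ⟨n, hn⟩⁻¹, hL.conj_mem l hl _, rfl⟩
  by_cases hc : ∀ k ∈ K, k * k = 1 → k = 1
  · left
    have hb : K = ⊥ := H.eq_bot hJP hPC K hc (fun u hu => hn u (mem_invGen_of_ord hu))
      fun u hu k hk huk => by
        obtain ⟨g, rfl⟩ := H.exists_conj (H.eight hJP hPC) hu
        have hN : (invGen G).Normal := inferInstance
        let K' : Subgroup G := K.comap (MulAut.conj g).toMonoidHom
        have hK'm : ∀ x, x ∈ K' ↔ g * x * g⁻¹ ∈ K := fun x => Iff.rfl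
        have := H.free_J hsimple hJP hPC (K := K') (fun x hx => by
            have := hN.conj_mem _ (hKN ((hK'm x).1 hx)) g⁻¹
            simpa [mul_assoc] using this)
          (fun n hn' x hx => (hK'm _).2 (by
            have := hn _ (hN.conj_mem n hn' g) _ ((hK'm x).1 hx)
            simpa [mul_assoc] using this))
          (fun x hx h2 => by
            have := hc _ ((hK'm x).1 hx) (by
              calc g * x * g⁻¹ * (g * x * g⁻¹) = g * (x * x) * g⁻¹ := by group
                _ = 1 := by rw [h2]; group)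
            exact conj_eq_one_iff.1 this)
          (g⁻¹ * k * g) ((hK'm _).2 (by simpa [mul_assoc] using hk)) (by
            calc g⁻¹ * k * g * J = g⁻¹ * (k * (g * J * g⁻¹)) * g := by group
              _ = g⁻¹ * (g * J * g⁻¹ * k) * g := by rw [huk]
              _ = J * (g⁻¹ * k * g) := by group)
        calc k = g * (g⁻¹ * k * g) * g⁻¹ := by group
          _ = 1 := by rw [this]; group
    exact (Subgroup.map_eq_bot_iff_of_injective L (invGen G).subtype_injective).1 hb
  · right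
    push Not at hc
    obtain ⟨k, hk, hk2, hk1⟩ := hc
    obtain ⟨a, haN, hka⟩ := H.exists_conjN hJP hPC (orderOf_two hk2 hk1)
    have hNK : invGen G ≤ K := invGen_le fun x hx => by
      rcases eq_or_ne x 1 with rfl | hx1
      · exact one_mem K
      obtain ⟨b, hbN, hxb⟩ := H.exists_conjN hJP hPC (orderOf_two hx hx1)
      have := hn _ (mul_mem hbN (inv_mem haN)) k hk
      have e : b * a⁻¹ * k * (b * a⁻¹)⁻¹ = x := by rw [← hka, ← hxb]; group
      rwa [e] at this
    rw [Subgroup.eq_top_iff']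
    intro x
    obtain ⟨l, hl, hlx⟩ := hNK x.2
    exact (Subtype.ext hlx : l = x) ▸ hl

end Cfsg.Agent.Lib.TwoCentralAlt
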